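import Cfsg.Agent.H594.LB.MuZero
import Cfsg.Agent.H996.PQ.RowE8X
import Cfsg.Agent.H632.PQ.Sl
import Cfsg.Agent.H307.XC.TypOne
import Cfsg.Agent.H316.HT.Defs
import Cfsg.Agent.H631.HT.MemOne

/-!
# S4933, `E₈(q)`, `p = 5`, and `p = 7` with `7 ∣ q ^ 2 - 1` (helper275)

The constituent `φ_{35,2}` of `1_P^S`, `P` the maximal parabolic subgroup of node `7`: degree
`q² Φ₅ Φ₇ Φ₁₀ Φ₁₄ Φ₁₅ Φ₂₀ Φ₃₀`, `p`-part exactly `p`; it is in the principal block, of multiplicity one in `1_P^S`, and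
invariant under all automorphisms.
-/

set_option autoImplicit false
set_option maxRecDepth 20000

open Cfsg

namespace Cfsg.Agent.H275.HT.EEight

open Cfsg.Agent.H967.Sph Cfsg.Agent.H317.PQ Cfsg.Agent.Blocks.Basic Cfsg.Agent.Blocks.Local Cfsg.Agent.H64.Dl.Sph
  Cfsg.Agent.H996.Eight Cfsg.Agent.H996.Eight.Cert Cfsg.Agent.H996.PQ Cfsg.Agent.H632.PQ.Arith
open CoxeterSystem Cfsg.Agent.ChevalleyStructure.CoxeterGeom Cfsg.Agent.Tits.Roots Cfsg.Agent.Tits.Core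
  Cfsg.Agent.Nodes.Reps Cfsg.Agent.Nodes.BNOf Cfsg.Agent.Nodes.Bruhat Cfsg.Agent.Nodes.LeviDec
open Cfsg.Lie Cfsg.Agent.ChevalleyStructure Cfsg.Agent.ChevalleyStructure.CoxeterGeomTypes Cfsg.Agent.Nodes.RGDChev
  Cfsg.Agent.H35.ExcIdx

universe u

/-! ### no symmetries of the diagram -/

/-- the number of weighted walks -/
def walks {I : Type} [Fintype I] (M : I → I → ℕ) : ℕ → I → ℕ
  | 0, _ => 1
  | k + 1, i => ∑ j, M i j * walks M k j

theorem walks_comp {I : Type} [Fintype I] {M : I → I → ℕ} {σ : Equiv.Perm I} (hσ : ∀ i j, M (σ i) (σ j) = M i j) :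
    ∀ k i, walks M k (σ i) = walks M k i := by
  intro k
  induction k with
  | zero => intro i; rfl
  | succ k ih =>
    intro i
    unfold walks
    rw [← Equiv.sum_comp σ]
    exact Finset.sum_congr rfl fun j _ => by rw [hσ, ih]

theorem perm_eq_one_of_walks {I : Type} [Fintype I] {M : I → I → ℕ} {k : ℕ}
    (hinj : ∀ i j, (∀ m : Fin k, walks M m i = walks M m j) → i = j) {σ : Equiv.Perm I}
    (hσ : ∀ i j, M (σ i) (σ j) = M i j) : σ = 1 := by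
  ext i
  exact hinj _ _ fun m => walks_comp hσ m i

set_option backward.isDefEq.respectTransparency false in
theorem perm_eight {σ : Equiv.Perm (Fin 8)} (hσ : ∀ i j, CoxeterMatrix.E₈ (σ i) (σ j) = CoxeterMatrix.E₈ i j) :
    σ = 1 :=
  perm_eq_one_of_walks (M := fun i j => CoxeterMatrix.E₈ i j) (k := 5) (by decide +kernel) hσ

/-! ### arithmetic of the certificate -/

theorem lam35_ok : ∀ c, pEq (pMul (FullE8a.lam 2 c) (TabE8a.c2.nu 0)) (pMul (TabE8a.data.kk c) (TabE8a.c2.nu c)) = true := by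
  decide +kernel

/-- the degree: the `5`-part -/
theorem dn_five : ∀ r : Fin 25, (r : ℕ) % 5 ≠ 0 → evZ ((r : ℕ) : ℤ) TabE8a.c2.dn % 25 ≠ 0 ∧
    evZ ((r : ℕ) : ℤ) TabE8a.c2.dn % 5 = 0 := by
  decide +kernel

/-- the degree: the `7`-part -/
theorem dn_seven : ∀ r : Fin 49, ((r : ℕ) % 7 = 1 ∨ (r : ℕ) % 7 = 6) → evZ ((r : ℕ) : ℤ) TabE8a.c2.dn % 49 ≠ 0 ∧
    evZ ((r : ℕ) : ℤ) TabE8a.c2.dn % 7 = 0 := by
  decide +kernel

theorem lam_five : ∀ r : Fin 5, (r : ℕ) ≠ 0 → (r : ℕ) ≠ 1 → ∀ c,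
    (evZ ((r : ℕ) : ℤ) (FullE8a.lam 2 c) - evZ ((r : ℕ) : ℤ) (TabE8a.data.kk c)) % 5 = 0 := by
  decide +kernel

theorem lam_seven : ∀ c,
    (evZ 6 (FullE8a.lam 2 c) - evZ 6 (TabE8a.data.kk c)) % 7 = 0 := by
  decide +kernel

theorem hA8 : cartanOf chevE8 8 = TabE8a.A := by
  funext i k
  revert i k
  decide +kernel

/-! ### the general step -/

section Gen

variable {I W : Type*} {Y : Type u} [Fintype I] [DecidableEq I] [Group W] [Finite W] [Group Y] [Finite Y]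
    {M : CoxeterMatrix I} {cs : CoxeterSystem M W} {A : I → I → ℤ} {h : IsCartan M A} {r : ℕ} {T : Subgroup Y}
    {n : I → Y} {X : (I → ℤ) → Subgroup Y} (R : RGD cs h r T n X) (hG : GG cs h T X = ⊤)
    {j : I} {N m : ℕ} (D : Data A j N m) {x : ℕ} (hx : 2 ≤ x) (hq : ∀ i, Nat.card (X (sr i)) = x ^ D.e i)
    (C : Crt m) (hC : C.ok (D.t.cls D.t.o) D.bb D.kk)
    {lam : Fin m → List ℤ} (hlam : ∀ c, pEq (pMul (lam c) (C.nu (D.t.cls D.t.o))) (pMul (D.kk c) (C.nu c)) = true)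

include hx hq hC hlam in
/-- congruent eigenvalues: the constituent is in the principal block -/
theorem mem_of_lam {χ : Y → ℂ} {d : ℕ}
    (H : HasVal R hG D.t χ d (fun c => ev x (C.nu c) / ev x (C.nu (D.t.cls D.t.o)))) {p' : ℕ} {M' : Ideal AlgInt}
    (hM : IsPModular p' M') (hc : ∀ c, (p' : ℤ) ∣ evZ x (lam c) - evZ x (D.kk c)) : SameBlock M' (1 : Y → ℂ) χ := by
  have hx' : (2 : ℚ) ≤ (x : ℚ) := by exact_mod_cast hx
  have hws : ∀ i s, 0 < D.t.vec s i → x ^ D.wl (D.t.st i s) = x ^ D.e i * x ^ D.wl s := by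
    intro i s h9
    rw [D.ws i s h9, pow_add]
  have hwo : x ^ D.wl D.t.o = 1 := by rw [D.wo, pow_zero]
  have hMp : M'.IsPrime := isPrime_of_isPModular hM
  have hnu := ev_pos hx' hC.1
  refine HasVal.sameBlock R hG D.t (fun i => x ^ D.e i) hq (fun s => x ^ D.wl s) hwo hws
    (HasVal.trivial R hG D.t) H hM ?_
  intro c
  obtain ⟨z, hz⟩ := hc c
  refine ⟨-z, ?_⟩
  have h5 : ∑ s, (if D.t.cls s = c then ((x ^ D.wl s : ℕ) : ℚ) else 0) = ev x (D.kk c) := by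
    rw [← ChkK.spec (x : ℚ) D.chkK c, Finset.sum_filter]
    refine Finset.sum_congr rfl fun s _ => ?_
    split_ifs
    · push_cast
      rfl
    · rfl
  have h6 := ev_of_pEq (x : ℚ) (hlam c)
  rw [ev_pMul, ev_pMul] at h6
  have h7 : ev (x : ℚ) (D.kk c) * (ev x (C.nu c) / ev x (C.nu (D.t.cls D.t.o))) = ev x (lam c) := by
    rw [← mul_div_assoc, ← h6, mul_div_assoc, div_self hnu.ne', mul_one]
  have h8 := evZ_cast (x : ℤ) (lam c)
  have h9 := evZ_cast (x : ℤ) (D.kk c)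
  push_cast at h8 h9
  rw [h5, mul_sub, mul_one, h7, ← h8, ← h9]
  have h10 : (evZ (x : ℤ) (lam c) : ℚ) - (evZ (x : ℤ) (D.kk c) : ℚ) = (p' : ℚ) * z := by exact_mod_cast hz
  push_cast
  linear_combination -h10

/-- an automorphism of trivial type maps the parabolic subgroups to conjugates -/
theorem map_PJ_conj [Fact r.Prime] (α : MulAut Y) (hα : H116.StAut.typHom R hG α = 1) (J : Set I) :
    ∃ s : Y, (PJ cs h T X J).map (α : Y →* Y) = (PJ cs h T X J).map (MulAut.conj s).toMonoidHom := by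
  have h1 := H116.StAut.gel_spec R hG α
  have h2 : H116.StAut.typ R hG α = 1 := hα
  rw [h2] at h1
  refine ⟨H116.StAut.gel R hG α, ?_⟩
  have key : ∀ x, (H116.StAut.gel R hG α)⁻¹ * α x * H116.StAut.gel R hG α ∈ PJ cs h T X J ↔
      x ∈ PJ cs h T X J := by
    intro x
    have h3 := h1 J x
    rwa [show (⇑(1 : Equiv.Perm I)) '' J = J from by simp] at h3
  ext y
  rw [Subgroup.mem_map, Subgroup.mem_map]
  constructor
  · rintro ⟨x, hx, rfl⟩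
    refine ⟨_, (key x).2 hx, ?_⟩
    show H116.StAut.gel R hG α * ((H116.StAut.gel R hG α)⁻¹ * α x * H116.StAut.gel R hG α) *
      (H116.StAut.gel R hG α)⁻¹ = α x
    group
  · rintro ⟨z, hz, rfl⟩
    refine ⟨α.symm (H116.StAut.gel R hG α * z * (H116.StAut.gel R hG α)⁻¹), ?_, ?_⟩
    · rw [← key]
      have h4 : α (α.symm (H116.StAut.gel R hG α * z * (H116.StAut.gel R hG α)⁻¹)) =
          H116.StAut.gel R hG α * z * (H116.StAut.gel R hG α)⁻¹ := α.apply_symm_apply _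
      rw [h4]
      have h5 : (H116.StAut.gel R hG α)⁻¹ * (H116.StAut.gel R hG α * z * (H116.StAut.gel R hG α)⁻¹) *
          H116.StAut.gel R hG α = z := by group
      rwa [h5]
    · exact α.apply_symm_apply _

/-- a constituent of `1_(P_J)^S` is invariant under the automorphisms of trivial type -/
theorem inv_of_mu [Fact r.Prime] (J : Set I) {χ : IrrCharacter Y}
    (hχ : H439.CC.mu (PJ cs h T X J) (χ : Y → ℂ) ≠ 0) (α : MulAut Y) (hα : H116.StAut.typHom R hG α = 1) (s : Y) :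
    (χ : Y → ℂ) (α s) = (χ : Y → ℂ) s := by
  have := Fintype.ofFinite Y
  have h1 : H674.XZ.ip (H145.BR.permC Y (Y ⧸ PJ cs h T X J)) (χ : Y → ℂ) ≠ 0 := by
    rw [H674.XZ.ip_eq]
    have e := H319.PQ.classInner_cosets (PJ cs h T X J) χ
    have e2 : classInner (H145.BR.permC Y (Y ⧸ PJ cs h T X J)) (χ : Y → ℂ) = H439.CC.mu (PJ cs h T X J) (χ : Y → ℂ) := e
    rw [e2]
    exact hχ
  exact H307.XC.inv_of_perm R hG χ (H307.XC.perm_of_PJ R hG J h1) α hα s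

end Gen

/-! ### the valuation -/

/-- the residues decide the exponent -/
theorem fact_one {p d : ℕ} (hp : p.Prime) (h1 : p ∣ d) (h2 : ¬ p ^ 2 ∣ d) : d.factorization p = 1 := by
  have h0 : d ≠ 0 := by
    rintro rfl
    exact h2 (dvd_zero _)
  have h3 := (hp.pow_dvd_iff_le_factorization h0 (k := 1)).1 (by rwa [pow_one])
  have h4 : ¬ 2 ≤ d.factorization p := fun h => h2 ((hp.pow_dvd_iff_le_factorization h0).2 h)
  omega

theorem val_fact {C : Crt 5} (hden : C.den = 1) (hpos : pPos C.dn = true) {p x : ℕ} (hp : p.Prime) (hx : 2 ≤ x)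
    (h1 : evZ ((x % (p ^ 2) : ℕ) : ℤ) C.dn % ((p ^ 2 : ℕ) : ℤ) ≠ 0)
    (h2 : evZ ((x % (p ^ 2) : ℕ) : ℤ) C.dn % (p : ℤ) = 0) : (val C.den C.dn x).factorization p = 1 := by
  have hx' : (2 : ℚ) ≤ (x : ℚ) := by exact_mod_cast hx
  have h3 : (0 : ℤ) < evZ x C.dn := by
    have h2 := ev_pos hx' hpos
    have h3 := evZ_cast x C.dn
    push_cast at h3
    rw [← h3] at h2
    exact_mod_cast h2
  have h4 : ((val C.den C.dn x : ℕ) : ℤ) = evZ x C.dn := by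
    rw [val, hden, Nat.cast_one, Int.ediv_one, Int.toNat_of_nonneg h3.le]
  have e1 : evZ (x : ℤ) C.dn ≡ evZ ((x % (p ^ 2) : ℕ) : ℤ) C.dn [ZMOD ((p ^ 2 : ℕ) : ℤ)] := by
    have h5 := evZ_emod ((p ^ 2 : ℕ) : ℤ) (x : ℤ) C.dn
    rw [Int.natCast_mod]
    exact h5
  apply fact_one hp
  · have h6 : (p : ℤ) ∣ evZ (x : ℤ) C.dn := by
      have h7 : (p : ℤ) ∣ ((p ^ 2 : ℕ) : ℤ) := by
        push_cast
        exact dvd_pow_self _ two_ne_zero
      have h8 := (e1.of_dvd h7).dvd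
      have h9 := Int.dvd_of_emod_eq_zero h2
      have h10 := dvd_sub h9 h8
      rwa [sub_sub_cancel] at h10
    rw [← h4] at h6
    exact_mod_cast h6
  · intro h6
    apply h1
    have h7 : ((p ^ 2 : ℕ) : ℤ) ∣ evZ (x : ℤ) C.dn := by
      rw [← h4]
      exact_mod_cast h6
    have h8 : evZ (x : ℤ) C.dn % ((p ^ 2 : ℕ) : ℤ) = evZ ((x % (p ^ 2) : ℕ) : ℤ) C.dn % ((p ^ 2 : ℕ) : ℤ) := e1
    rw [← h8]
    exact Int.emod_eq_zero_of_dvd h7

theorem fact_five {x : ℕ} (hx : 2 ≤ x) (h : x % 5 ≠ 0) :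
    (val TabE8a.c2.den TabE8a.c2.dn x).factorization 5 = 1 := by
  have h1 : x % 25 % 5 ≠ 0 := by omega
  have h2 := dn_five ⟨x % 25, Nat.mod_lt _ (by norm_num)⟩ h1
  exact val_fact rfl TabE8a.ok2.2.1 Nat.prime_five hx h2.1 h2.2

theorem fact_seven {x : ℕ} (hx : 2 ≤ x) (h : x % 7 = 1 ∨ x % 7 = 6) :
    (val TabE8a.c2.den TabE8a.c2.dn x).factorization 7 = 1 := by
  have h1 : x % 49 % 7 = 1 ∨ x % 49 % 7 = 6 := by omega
  have h2 := dn_seven ⟨x % 49, Nat.mod_lt _ (by norm_num)⟩ h1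
  exact val_fact rfl TabE8a.ok2.2.1 (by norm_num) hx h2.1 h2.2

/-- the eigenvalue congruences -/
theorem lam_dvd_five {x : ℕ} (h0 : x % 5 ≠ 0) (h1 : x % 5 ≠ 1) (c : Fin 5) :
    ((5 : ℕ) : ℤ) ∣ evZ x (FullE8a.lam 2 c) - evZ x (TabE8a.data.kk c) := by
  have h2 := lam_five ⟨x % 5, Nat.mod_lt _ (by norm_num)⟩ h0 h1 c
  refine Int.dvd_of_emod_eq_zero ?_
  have h3 := evZ_emod (5 : ℤ) (x : ℤ) (FullE8a.lam 2 c)
  have h4 := evZ_emod (5 : ℤ) (x : ℤ) (TabE8a.data.kk c)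
  have h5 : ((x : ℤ) % 5) = ((x % 5 : ℕ) : ℤ) := by push_cast; rfl
  rw [h5] at h3 h4
  have h2' : (evZ ((x % 5 : ℕ) : ℤ) (FullE8a.lam 2 c) - evZ ((x % 5 : ℕ) : ℤ) (TabE8a.data.kk c)) % 5 = 0 := h2
  show (evZ x (FullE8a.lam 2 c) - evZ x (TabE8a.data.kk c)) % 5 = 0
  rw [Int.sub_emod, h3, h4, ← Int.sub_emod]
  exact h2'

theorem lam_dvd_seven {x : ℕ} (h : x % 7 = 6) (c : Fin 5) :
    ((7 : ℕ) : ℤ) ∣ evZ x (FullE8a.lam 2 c) - evZ x (TabE8a.data.kk c) := by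
  have h2 := lam_seven c
  refine Int.dvd_of_emod_eq_zero ?_
  have h3 := evZ_emod (7 : ℤ) (x : ℤ) (FullE8a.lam 2 c)
  have h4 := evZ_emod (7 : ℤ) (x : ℤ) (TabE8a.data.kk c)
  have h5 : ((x : ℤ) % 7) = 6 := by omega
  rw [h5] at h3 h4
  show (evZ x (FullE8a.lam 2 c) - evZ x (TabE8a.data.kk c)) % 7 = 0
  rw [Int.sub_emod, h3, h4, ← Int.sub_emod]
  exact h2

/-! ### the result -/

/-- the statement over an equal Cartan matrix -/
theorem core {W : Type*} {Y : Type u} [Group W] [Finite W] [Group Y] [Finite Y]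
    {cs : CoxeterSystem CoxeterMatrix.E₈ W} {A : Fin 8 → Fin 8 → ℤ} {h : IsCartan CoxeterMatrix.E₈ A} {r : ℕ}
    [Fact r.Prime] {T : Subgroup Y} {n : Fin 8 → Y} {X : (Fin 8 → ℤ) → Subgroup Y} (R : RGD cs h r T n X)
    (hG : GG cs h T X = ⊤) (hA : A = TabE8a.A) {x : ℕ} (hx : 2 ≤ x) (hq : ∀ i, Nat.card (X (sr i)) = x) {p : ℕ}
    (hp : p = 5 ∧ x % 5 ≠ 0 ∨ p = 7 ∧ (x % 7 = 1 ∨ x % 7 = 6))
    (hone : x % p = 1 → ∀ χ : IrrCharacter Y, H439.CC.mu (PJ cs h T X {i | i ≠ 7}) (χ : Y → ℂ) ≠ 0 →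
      ∀ M : Ideal AlgInt, IsPModular p M → χ ∈ principalBlock M Y) :
    ∃ ψ : IrrCharacter Y, H439.CC.mu (PJ cs h T X {i | i ≠ 7}) (ψ : Y → ℂ) = 1 ∧
      (∀ M : Ideal AlgInt, IsPModular p M → ψ ∈ principalBlock M Y) ∧ H316.HT.vd p (ψ : Y → ℂ) = 1 ∧
      ∀ φ : MulAut Y, (∃ s : Y, (PJ cs h T X {i | i ≠ 7}).map (φ : Y →* Y) =
        (PJ cs h T X {i | i ≠ 7}).map (MulAut.conj s).toMonoidHom) ∧ ∀ g, (ψ : Y → ℂ) (φ g) = (ψ : Y → ℂ) g := by
  subst hA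
  have hq' : ∀ i, Nat.card (X (sr i)) = x ^ TabE8a.data.e i := by
    intro i
    have h9 : ∀ i, TabE8a.data.e i = 1 := by decide +kernel
    rw [hq, h9 i, pow_one]
  have ho : TabE8a.data.t.cls TabE8a.data.t.o = 0 := by decide +kernel
  obtain ⟨χ, H⟩ := exists_crt R hG TabE8a.data hx hq' TabE8a.c2 (ok1_of_ok TabE8a.ok2) (uq_of_ok TabE8a.ok2) TabE8a.dvd2
  obtain ⟨ψ, hψ⟩ : ∃ ψ : IrrCharacter Y, ψ = ⟨χ, H.irr⟩ := ⟨_, rfl⟩
  have hψ' : (ψ : Y → ℂ) = χ := by rw [hψ]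
  have hmu : H439.CC.mu (PJ cs h T X {i | i ≠ 7}) (ψ : Y → ℂ) = 1 := by
    rw [hψ']
    exact H594.LB.Mu.mu_one R hG TabE8a.data.t H
  have hmu0 : H439.CC.mu (PJ cs h T X {i | i ≠ 7}) (ψ : Y → ℂ) ≠ 0 := by
    rw [hmu]
    exact one_ne_zero
  have htyp : ∀ φ : MulAut Y, H116.StAut.typHom R hG φ = 1 := fun φ =>
    H307.XC.typ_one_of_sym R hG (fun σ hσ _ => perm_eight hσ) φ
  refine ⟨ψ, hmu, ?_, ?_, fun φ => ⟨map_PJ_conj R hG φ (htyp φ) _, inv_of_mu R hG _ hmu0 φ (htyp φ)⟩⟩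
  · intro M' hM
    by_cases h1 : x % p = 1
    · exact hone h1 ψ hmu0 M' hM
    · have hlam : ∀ c, pEq (pMul (FullE8a.lam 2 c) (TabE8a.c2.nu (TabE8a.data.t.cls TabE8a.data.t.o)))
          (pMul (TabE8a.data.kk c) (TabE8a.c2.nu c)) = true := by
        rw [ho]
        exact lam35_ok
      have h2 : SameBlock M' (1 : Y → ℂ) χ := by
        refine mem_of_lam R hG TabE8a.data hx hq' TabE8a.c2 TabE8a.ok2 hlam H hM (fun c => ?_)
        rcases hp with ⟨rfl, h3⟩ | ⟨rfl, h3⟩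
        · exact lam_dvd_five h3 h1 c
        · exact lam_dvd_seven (h3.resolve_left h1) c
      rw [hψ]
      intro g
      exact h2 g
  · have h9 := Blocks.Basic.irr_one_eq_charDegree ψ.2
    have h10 : ((ψ : Y → ℂ) 1 : ℂ) = (val TabE8a.c2.den TabE8a.c2.dn x : ℂ) := by rw [hψ']; exact H.one
    have h11 : ((charDegree (ψ : Y → ℂ) : ℕ) : ℂ) = (val TabE8a.c2.den TabE8a.c2.dn x : ℂ) := h9.symm.trans h10
    have h12 : charDegree (ψ : Y → ℂ) = val TabE8a.c2.den TabE8a.c2.dn x := by exact_mod_cast h11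
    unfold H316.HT.vd
    rw [h12]
    rcases hp with ⟨rfl, h3⟩ | ⟨rfl, h3⟩
    · exact fact_five hx h3
    · exact fact_seven hx h3

/-- **S4933, `E₈(q)`, `p = 5` or `p = 7 ∣ q ^ 2 - 1`.** -/
theorem udata_E8 (K : Type u) [Field K] [Fintype K] {p : ℕ} [Fact p.Prime]
    (hp : p = 5 ∧ ¬ 5 ∣ Fintype.card K ∨ p = 7 ∧ 7 ∣ Fintype.card K ^ 2 - 1) :
    ∃ (H : Subgroup ↥(chevE8.group K)) (ψ : IrrCharacter ↥(chevE8.group K)),
      H439.CC.mu H (ψ : ↥(chevE8.group K) → ℂ) = 1 ∧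
      (∀ M : Ideal AlgInt, IsPModular p M → ψ ∈ principalBlock M ↥(chevE8.group K)) ∧
      H316.HT.vd p (ψ : ↥(chevE8.group K) → ℂ) = 1 ∧
      ∀ φ : MulAut ↥(chevE8.group K), (∃ s, H.map (φ : ↥(chevE8.group K) →* ↥(chevE8.group K)) =
        H.map (MulAut.conj s).toMonoidHom) ∧
        ∀ g, (ψ : ↥(chevE8.group K) → ℂ) (φ g) = (ψ : ↥(chevE8.group K) → ℂ) g := by
  obtain ⟨r, hr⟩ := CharP.exists K
  have : Fact r.Prime := ⟨CharP.char_is_prime K r⟩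
  have := finite_W hpE8 CoxeterMatrix.E₈.toCoxeterSystem
  have := finite_group chevE8 K
  have := Fintype.ofFinite ↥(chevE8.group K)
  have hq2 : 2 ≤ Fintype.card K := Fintype.one_lt_card
  have hp' : p = 5 ∧ Fintype.card K % 5 ≠ 0 ∨ p = 7 ∧ (Fintype.card K % 7 = 1 ∨ Fintype.card K % 7 = 6) := by
    rcases hp with ⟨h1, h2⟩ | ⟨h1, h2⟩
    · exact Or.inl ⟨h1, fun h3 => h2 (Nat.dvd_of_mod_eq_zero h3)⟩
    · refine Or.inr ⟨h1, ?_⟩
      generalize Fintype.card K = q at h2 hq2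
      have h3 : 7 ∣ (q + 1) * (q - 1) := by
        have h4 := Nat.sq_sub_sq q 1
        rw [one_pow] at h4
        rwa [← h4]
      rcases (Nat.Prime.dvd_mul (by norm_num)).1 h3 with h5 | h5 <;> omega
  obtain ⟨ψ, h1, h2, h3, h4⟩ := core (rgd (K := K) hpE8 CoxeterMatrix.E₈.toCoxeterSystem r)
    (GG_eq_top hpE8 K CoxeterMatrix.E₈.toCoxeterSystem) hA8 (x := Fintype.card K) Fintype.one_lt_card
    (fun i => by rw [card_XX hpE8 K CoxeterMatrix.E₈.toCoxeterSystem (isRoot_sr _ _ i), Nat.card_eq_fintype_card])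
    hp' (by
      intro h5 χ hχ M' hM
      refine H631.HT.mem_one_E8 (p := p) ?_ ?_ hM {i | i ≠ 7} χ ?_
      · rcases hp' with ⟨rfl, -⟩ | ⟨rfl, -⟩ <;> norm_num
      · have h6 := Nat.div_add_mod (Fintype.card K) p
        refine ⟨Fintype.card K / p, ?_⟩
        omega
      · have e := H319.PQ.classInner_cosets (PJ CoxeterMatrix.E₈.toCoxeterSystem hpE8.isCartan
          (H35.ExcIdx.TT chevE8 K) (H35.ExcIdx.XX chevE8 8 K) {i | i ≠ 7}) χ
        intro h7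
        apply hχ
        exact e.symm.trans h7)
  exact ⟨_, ψ, h1, h2, h3, h4⟩

end Cfsg.Agent.H275.HT.EEight
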